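import Cfsg.Agent.SG2.Hyp
import Cfsg.Agent.Chev.StructFilt

/-!
# Standard subgroups of type `F₄(2ⁿ)`: root systems of type `F₄` in characteristic two

Roots are indexed by `Fin 48` as in `chevF4` (`ng r = 47 - r` is the negative root). In doubled
coordinates: `24 = e₂-e₃`, `25 = e₃-e₄`, `26 = e₂-e₄`, `27 = e₄`, `28 = e₃`, `29 = e₂`,
`30 = e₃+e₄`, `31 = e₂+e₄`, `32 = e₂+e₃`, `33..40 = ½(+,±,±,±)` (binary order: `33 = +---`,
`34 = +--+`, `35 = +-+-`, `36 = ++--`, `37 = +-++`, `38 = ++-+`, `39 = +++-`, `40 = ++++`),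
`41 = e₁-e₂`, `42 = e₁-e₃`, `43 = e₁-e₄`, `44 = e₁`, `45 = e₁+e₄`, `46 = e₁+e₃`, `47 = e₁+e₂`.
All tables are packed numerals: use `decide` or `decide +kernel`.
-/

set_option autoImplicit false
set_option linter.unusedSectionVars false

namespace Cfsg.Lib.SF4

open Subgroup Cfsg.Lib.Trans Cfsg.Lib.Gold Cfsg.Lib.Chev
open scoped commutatorElement

/-- The index set of the roots. -/
abbrev Φ : Type := Fin 48

def cdT : ℕ := 0x224424244224222402242024220433331333313333131133131331131113244242424422224224224222024204222042240240224202022220222202002202022002333113313131331111311311311111112240242042202220022020202200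
def lgT : ℕ := 0xee01c7e38077
def duT : ℕ := 0xb289ef9a476eb6b82a7da6258dca5e6626e13943564464cc29755014f1020522c90081c3
def ipT : ℕ := 0x8318c6310c6310c4210c621884310c2208841104221082208422084210806418c6218c621886210c4310c421846110822088221044110421104210046320c4318c431884310863108610884318442084420884108821088200846318c6318a5294a5294842108421084210842108418c6318c631084210846310c831886210c6218821108231884108c4218c411042210441080220846218c641884310c43184411044208c2310862188610882208841004211044318c6320842188631842208841104621884310c610844110840084210886318a4210c52948420cc6314a52108421063188422908418c622108310846310a6210a6210a5190c4214a331884108a31908221463210432104320846218a4310a4310a32908621465208c2310651904420ca3208832088311044318a4218a4218652908430ca511046218632888420c65110831108310886210a63108528cc42148411463310c2208a5198841908228c642084321044310a621885194862148220ca321846110a3290c419044194641104320884218a431883294843144420c651088431865290861888418ca41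088311084210a631864210a52984210c6321084210a5298c610c6321085108432108631084108c62108410906318c43188410882108403188421042318842084621882208c431082208c831886208c23104410802310c420882310c41104431882110c421844208c6410c61104621842200423108611082218c41088621084208a528ca318cc621884310c22088411042294a328c63310842104431084110a51946518cc4310c42184611082208822946519463218842088421882210a32946328c863108610884318442084428ca518ca3210c4110862088620886208c4110c411882418c2100c41188221882310443104431044308861108611086110c2210c232046008c2210c2218442184421844308861108430884308c22108611844309003088611844210c230884308842184231084118841184621082308c41180811882308c4210461188411884208c41188231082310823104621046100c24184621046208c4208c4208c411882218822188221844310443088600846320443088620886110c4110c4110c4208862106518ca5194821108231884108c4218c419463294652104431084110843106328ca32944411044208c2310862188618ca328ca5208842188221084218631946529442208841104621884310c618c65194a511084210c41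088631044208c42184201042310c2208c6220c611082310862084431882208862184411086218401088221846110c431906110442188611044310c211084318422108431802108441088431886318c810884210c610884218c421062108a421063188c6314a5210842106318842314a521083318c521084208641088518c8410cc4214a331884108a31908229884294643188531084110622088328c8220c8621465208c23106519044290c428ca4310c52188221062110831944420c8430ca511046218632888429086194a4218c5210c41086420864208a31908411463310c2208a519884214a33108531085318822086411064110651908220ca321846110a3290c4214652188521885310c21106221062210632904420c6510884318652908620ca5210c5210c5218c2108642104318c842144210c6321084210a5298c619084294a621085318c4108421008420882108c621884310c22088411042318c431084418c631882208420088411044108c4310c42184611082208823188621884320c6310c21104010882210422088631086108843184420844310c6210c431906218c2108421086318c6318c8421084210842108421084294a5294a5318c6318c2100441084410884110821108231884108c4218c4218843188631886418c20084220842208822104411044208c23108621886210c4310c6310c6320c010842110421104421042208841104621884310c621086218c6218c63190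
def rfT : ℕ := 0x1755240fa4b2489478e284511e0dc6c2641b96b544ec46ba8e34ca0a9e690681f75a62f60159346a3cc2a62241e28467c47436da0af02d554b12ad0a4e3682e72658e015e719b97699094ad140d9ca2648c786018575c0efb985c102c4d2aa93cea0c2e694889f7846ed59518510308100e34c2ca2481e07de75c6da6585d65544d24503e89e69648e286fbadb2baa97deb5b1165683a694c2e2220bee75cb061585eaa434d20403e73648ca2611da66b50245082e79c6455e89ce94d8cb26f7ed76c6daac6a445540d209002690c88a8481d8a964d104fbe07dd6981a89e63a434c2aeb5eb1c6eb66a1561144c34420658e22e12481e95d54903c04503e1aeaa475134a48e2b0204028921a6585d65679a5beeb4334c2dd71ba061443a07de595b623eaa5b2269534ac8447de30ba010185efb87923450ace0dd70a26750616034269966e5e3ad0a5c9c9954b1286015e3682dabc2b405641e246a3ce7436ca9884c67c4318056bda624aea45d9e62ac5138607c6a0d32e66d096063887a503ce71b0e524849e1442d75407aeb655d5a6871bb0b8e24a07ef3a7985644ad6a892210103dd34c9035131c6698282051bdfb6662a5a876c6e43224e0b9e9ce95a1ab12954a8484413dc3632d40d21d9157242400bee827ada668b1d72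48cd52d7de9a53aaa585c616128945009b88c2d34831d654420f040beeb6881f7ac9e695d71b3abaa992389a6585d654d30b18512151348a2480d140f1c2040aa9b6caefba28669648e89cf5954d26d14185df79475c6998081cc2ca24e3410040c2185aeea6cbeab639e1964a2299941751c49a81178f55d4db61f5893472ca3883021400c6044bebaacbada649e68688e295a6117544e065f4163dc6d279754a34c1ce2482c60810c5100a6eb6caeabe58e2a219e691755e49c6d064f8167d44dd45a60b24838734c2801440c2046beab6caeea669288a78658d87d67536da4603de5547126505cc28e20d1cb2460440c2140beeaecb6aa67a248e69618a069975c51f7985d141b4d25953cd38a24c2c72061420c4040b6ebeca6aae89669e28e485e7e06dc7555d66586924d43d044e2cc34824a1c41460c0042bedbacaaba689a79648a385f81e75b71859a5595d351244f40e30d2ca2091c61050c1080bafb6cae9aa89e59a392286079f71d6d96976155944934113ce34b3092881c51840c2001bafb6cae9aa89e59a392286079f71d6d96976155944934113ce34b3092881c51840c2001bedbacaaba689a79648a385f81e75b71859a5595d351244f40e30d2ca2091c61050c1080b6ebeca6aae89669e28e485e7e06dc7555d66586924d43d044e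2cc34824a1c41460c0042beeaecb6aa67a248e69618a069975c51f7985d141b4d25953cd38a24c2c72061420c4040beab6caeea669288a78658d87d67536da4603de5547126505cc28e20d1cb2460440c2140a6eb6caeabe58e2a219e691755e49c6d064f8167d44dd45a60b24838734c2801440c2046bebaacbada649e68688e295a6117544e065f4163dc6d279754a34c1ce2482c60810c5100aeea6cbeab639e1964a2299941751c49a81178f55d4db61f5893472ca3883021400c6044aa9b6caefba28669648e89cf5954d26d14185df79475c6998081cc2ca24e3410040c2185beeb6881f7ac9e695d71b3abaa992389a6585d654d30b18512151348a2480d140f1c2040bee827ada668b1d7248cd52d7de9a53aaa585c616128945009b88c2d34831d654420f040bdfb6662a5a876c6e43224e0b9e9ce95a1ab12954a8484413dc3632d40d21d91572424007aeb655d5a6871bb0b8e24a07ef3a7985644ad6a892210103dd34c9035131c6698282051bda624aea45d9e62ac5138607c6a0d32e66d096063887a503ce71b0e524849e1442d754066e5e3ad0a5c9c9954b1286015e3682dabc2b405641e246a3ce7436ca9884c67c4318056595b623eaa5b2269534ac8447de30ba010185efb87923450ace0dd70a2675061603426994503e1aeaa475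134a48e2b0204028921a6585d65679a5beeb4334c2dd71ba061443a07debe07dd6981a89e63a434c2aeb5eb1c6eb66a1561144c34420658e22e12481e95d54903c082e79c6455e89ce94d8cb26f7ed76c6daac6a445540d209002690c88a8481d8a964d104f7deb5b1165683a694c2e2220bee75cb061585eaa434d20403e73648ca2611da66b50245018510308100e34c2ca2481e07de75c6da6585d65544d24503e89e69648e286fbadb2baa9699094ad140d9ca2648c786018575c0efb985c102c4d2aa93cea0c2e694889f7846ed59560159346a3cc2a62241e28467c47436da0af02d554b12ad0a4e3682e72658e015e719b9701755240fa4b2489478e284511e0dc6c2641b96b544ec46ba8e34ca0a9e690681f75a62f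

/-- The doubled coordinates plus two, packed in base 16. -/
def cd (r : Φ) : ℕ := (cdT >>> (16 * r.val)) % 65536

/-- The doubled `j`-th coordinate. -/
def co (r : Φ) (j : Fin 4) : ℤ := (((cd r >>> (4 * j.val)) % 16 : ℕ) : ℤ) - 2

/-- Long roots. -/
def lg (r : Φ) : Prop := (lgT >>> r.val) % 2 = 1

instance instDecLg : DecidablePred lg := fun _ => inferInstanceAs (Decidable (_ = 1))

/-- The inner product of doubled coordinates (long roots have norm 8, short roots 4). -/
def ip (a b : Φ) : ℤ := (((ipT >>> (5 * (48 * a.val + b.val))) % 32 : ℕ) : ℤ) - 8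

/-- `a + b = c`. -/
def Sm (a b c : Φ) : Prop := cd a + cd b = cd c + 8738

instance instDecSm (a b c : Φ) : Decidable (Sm a b c) := inferInstanceAs (Decidable (_ = _))

/-- The negative root. -/
def ng (r : Φ) : Φ := r.rev

/-- The reflection in `a` applied to `b`. -/
def rf (a b : Φ) : Φ := Fin.ofNat 48 ((rfT >>> (6 * (48 * a.val + b.val))) % 64)

/-- The Cartan integer `⟨b, a^∨⟩`. -/
def pr (a b : Φ) : ℤ := if lg a then ip a b / 4 else ip a b / 2

/-- The symmetry of the diagram (it interchanges long and short roots). -/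
def du (r : Φ) : Φ := Fin.ofNat 48 ((duT >>> (6 * r.val)) % 64)

/-- The value of a linear form on a root. -/
def ev (v : Fin 4 → ℤ) (r : Φ) : ℤ := v 0 * co r 0 + v 1 * co r 1 + v 2 * co r 2 + v 3 * co r 3

/-- The positive roots. -/
abbrev pU (r : Φ) : Prop := 24 ≤ r.val
/-- Roots of `C_L(X_a)`. -/
abbrev pP (a r : Φ) : Prop := 0 ≤ ip a r
/-- Roots of `O₂(C_L(X_a))`. -/
abbrev pQ (a r : Φ) : Prop := 0 < ip a r
/-- Roots of `Z(O₂(C_L(X_a)))`. -/
abbrev pZ (a r : Φ) : Prop := r = a ∨ (¬ (lg r ↔ lg a) ∧ 0 < ip a r)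
/-- Roots of the other length orthogonal to `a` (a system of type `A₃`). -/
abbrev pA (a r : Φ) : Prop := ¬ (lg r ↔ lg a) ∧ ip a r = 0
/-- Roots whose root groups centralise the enlarged root group of `a`. -/
abbrev pD (a r : Φ) : Prop := pQ a r ∨ pA a r
/-- The long `A₂` orthogonal to `33, 40, 44`. -/
abbrev pA2 (r : Φ) : Prop := 21 ≤ r.val ∧ r.val ≤ 26
/-- Roots of `O₂(C_L(x₃₉(1) x₄₅(1)))`. -/
abbrev pJ4 (r : Φ) : Prop := 28 ≤ r.val ∧ r ≠ 33 ∧ r ≠ 34

/-- All roots produced by the pair `a ≠ -b` satisfy `p`. -/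
def Pd (a b : Φ) (p : Φ → Prop) : Prop := b ≠ ng a ∧ (ip a b < 0 → p (rf a b) ∧ p (rf b a))

instance instDecPd (a b : Φ) (p : Φ → Prop) [DecidablePred p] : Decidable (Pd a b p) :=
  inferInstanceAs (Decidable (_ ∧ _))

/-- `p` is closed under the commutator relations and contains no pair of opposite roots. -/
def Cl (p : Φ → Prop) : Prop := ∀ a, p a → ∀ b, p b → Pd a b p

instance instDecCl (p : Φ → Prop) [DecidablePred p] : Decidable (Cl p) :=
  inferInstanceAs (Decidable (∀ _, _))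

section Ring

variable {K Γ : Type*} [CommRing K] [Group Γ]

/-- The Steinberg relations (R1), (R2) of type `F₄` in characteristic two. -/
structure F4S (x : Φ → K → Γ) : Prop where
  two : (2 : K) = 0
  add : ∀ a s u, x a (s + u) = x a s * x a u
  c0 : ∀ a b, 0 ≤ ip a b → ∀ s u, Commute (x a s) (x b u)
  c2 : ∀ a b c, (lg a ↔ lg b) → ip a b < 0 → Sm a b c → ∀ s u,
    x a s * x b u * (x a s)⁻¹ = x b u * x c (s * u)
  c3 : ∀ a b c d, lg a → ¬ lg b → Sm a b c → Sm c b d → ∀ s u,
    x a s * x b u * (x a s)⁻¹ = x b u * x c (s * u) * x d (s * u ^ 2)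

variable (x : Φ → K → Γ)

/-- A root subgroup. -/
def rt (a : Φ) : Subgroup Γ := closure (Set.range (x a))

/-- The subgroup generated by the root subgroups of the roots satisfying `p`. -/
def sp (p : Φ → Prop) : Subgroup Γ := spanX (rt x) {r | p r}

/-- The group generated by all root elements. -/
def LL : Subgroup Γ := sp x fun _ => True

/-- A product of root elements along a list. -/
def pw (l : List Φ) (c : Φ → K) : Γ := (l.map fun r => x r (c r)).prod

/-- The Sylow 2-subgroup `U`. -/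
abbrev UU : Subgroup Γ := sp x pU
/-- `C_L(X_a)`. -/
abbrev PR (a : Φ) : Subgroup Γ := sp x (pP a)
/-- `O₂(C_L(X_a))`. -/
abbrev QR (a : Φ) : Subgroup Γ := sp x (pQ a)
/-- `Z(O₂(C_L(X_a)))`. -/
abbrev ZR (a : Φ) : Subgroup Γ := sp x (pZ a)
/-- `C_L(x₄₄(1))`. -/
abbrev PP : Subgroup Γ := PR x 44
/-- `O₂(PP)`. -/
abbrev QQ : Subgroup Γ := QR x 44
/-- `Z(QQ)`. -/
abbrev ZZ : Subgroup Γ := ZR x 44
/-- `Z(U)`. -/
abbrev Z0 : Subgroup Γ := sp x (· ∈ [44, 47])
/-- `C_L(x₄₇(1) x₄₄(1))`. -/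
abbrev C3 : Subgroup Γ := sp x fun r => pP 44 r ∧ pP 47 r
/-- `O₂(C3)`. -/
abbrev JJ : Subgroup Γ := sp x fun r => pQ 44 r ∨ pQ 47 r
/-- `C_L(x₃₉(1) x₄₅(1))`. -/
abbrev C4 : Subgroup Γ := sp x fun r => pJ4 r ∨ r ∈ [14, 23, 24, 33]
/-- `O₂(C4)`. -/
abbrev J4 : Subgroup Γ := sp x pJ4
/-- `Z₂(U)`. -/
abbrev W4 : Subgroup Γ := sp x (· ∈ [40, 44, 46, 47])
/-- The radical of the form on `ZZ` times the orthogonal complement of `47`. -/
abbrev W6 : Subgroup Γ := sp x (· ∈ [42, 43, 44, 45, 46, 47])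

/-- Coordinates in `ZZ`. -/
def z7 (a b c r c' b' a' : K) : Γ :=
  x 41 a * x 42 b * x 43 c * x 44 r * x 45 c' * x 46 b' * x 47 a'

/-- The conjugate system. -/
def cx (g : Γ) : Φ → K → Γ := fun a s => g * x a s * g⁻¹

/-- The system twisted by the graph automorphism; `dual (dual x) a s = x a (s ^ 2)`. -/
def dual : Φ → K → Γ := fun a s => x (du a) (if lg a then s else s ^ 2)

/-- `g` acts on the root elements as the `k`-th power of the graph automorphism. -/
def Acts (g : Γ) (k : ℕ) : Prop := cx x g = dual^[k] x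

end Ring

/-- The quadratic form on `ZZ`. -/
def q7 {K : Type*} [CommRing K] (a b c r c' b' a' : K) : K := r ^ 2 + a * a' + b * b' + c * c'

/-- The subgroup generated by the elements of odd order. -/
def O2 {Γ : Type*} [Group Γ] (Y : Subgroup Γ) : Subgroup Γ :=
  closure {g | g ∈ Y ∧ Odd (orderOf g)}

section Field

variable {F Γ : Type*} [Field F] [Group Γ] (x : Φ → F → Γ)

/-- `n_a(s)`. -/
def nn (a : Φ) (s : F) : Γ := x a s * x (ng a) s⁻¹ * x a s

/-- `h_a(s)`. -/
def hh (a : Φ) (s : F) : Γ := nn x a s * nn x a 1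

/-- The element `x_a(1) x_{-a}(1)` of order three. -/
def r3 (a : Φ) : Γ := x a 1 * x (ng a) 1

/-- The order of the graph automorphism. -/
noncomputable def pd (F : Type*) : ℕ := 2 * Nat.log 2 (Nat.card F)

/-- A nontrivial system over a field: `LL x ≅ F₄(F)`. -/
structure Sys : Prop where
  s : F4S x
  ne : x 47 1 ≠ 1

/-- Short root involutions. -/
def Sh (v : Γ) : Prop := ∃ l ∈ LL x, l * x 44 1 * l⁻¹ = v
/-- Long root involutions. -/
def Lo (v : Γ) : Prop := ∃ l ∈ LL x, l * x 47 1 * l⁻¹ = v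
/-- The third class of involutions. -/
def Mx (v : Γ) : Prop := ∃ l ∈ LL x, l * (x 47 1 * x 44 1) * l⁻¹ = v
/-- The fourth class of involutions. -/
def Fo (v : Γ) : Prop := ∃ l ∈ LL x, l * (x 39 1 * x 45 1) * l⁻¹ = v

/-- The restriction of a system to a subfield. -/
def res (E : Subfield F) : Φ → E → Γ := fun a s => x a (s : F)

end Field

section Tables

theorem ip_comm : ∀ a b, ip a b = ip b a := by decide +kernel
theorem ip_eq : ∀ a b, ip a b = ev (co a) b := by decide +kernel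
theorem ip_self : ∀ a, ip a a = if lg a then 8 else 4 := by decide +kernel
theorem ng_ng (a : Φ) : ng (ng a) = a := Fin.rev_rev a
theorem lg_ng : ∀ a, lg (ng a) ↔ lg a := by decide +kernel
theorem ip_ng : ∀ a b, ip a (ng b) = -ip a b := by decide +kernel
theorem cd_inj : ∀ a b, cd a = cd b → a = b := by decide +kernel
theorem Sm.comm {a b c : Φ} (h : Sm a b c) : Sm b a c := by unfold Sm at *; omega
theorem Sm.uniq {a b c c' : Φ} (h : Sm a b c) (h' : Sm a b c') : c = c' :=
  cd_inj _ _ (by unfold Sm at *; omega)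
theorem lg_rf : ∀ a b, lg (rf a b) ↔ lg b := by decide +kernel
theorem rf_rf : ∀ a b, rf a (rf a b) = b := by decide +kernel
theorem rf_self : ∀ a, rf a a = ng a := by decide +kernel
theorem rf_ng : ∀ a b, rf a (ng b) = ng (rf a b) := by decide +kernel
theorem ng_rf : ∀ a b, rf (ng a) b = rf a b := by decide +kernel
theorem co_rf : ∀ a b j, co (rf a b) j = co b j - pr a b * co a j := by decide +kernel
theorem sm_iff {a b c : Φ} : Sm a b c ↔ ∀ j, co a j + co b j = co c j := by
  have h : ∀ r, cd r = (co r 0 + 2) + 16 * (co r 1 + 2) + 256 * (co r 2 + 2) + 4096 * (co r 3 + 2) ∧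
      ∀ j, -2 ≤ co r j ∧ co r j ≤ 2 := by decide +kernel
  obtain ⟨ha, ha'⟩ := h a
  obtain ⟨hb, hb'⟩ := h b
  obtain ⟨hc, hc'⟩ := h c
  have a0 := ha' 0; have a1 := ha' 1; have a2 := ha' 2; have a3 := ha' 3
  have b0 := hb' 0; have b1 := hb' 1; have b2 := hb' 2; have b3 := hb' 3
  have c0 := hc' 0; have c1 := hc' 1; have c2 := hc' 2; have c3 := hc' 3
  unfold Sm
  constructor
  · intro e j
    fin_cases j <;> simp only [Fin.zero_eta, Fin.mk_one, Fin.reduceFinMk] <;> omega
  · intro e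
    have := e 0; have := e 1; have := e 2; have := e 3
    omega
theorem Sm.ev {a b c : Φ} (h : Sm a b c) (v : Fin 4 → ℤ) : ev v c = ev v a + ev v b := by
  simp only [SF4.ev, ← sm_iff.1 h _]; ring
theorem Sm.ip {a b c : Φ} (h : Sm a b c) (d : Φ) : ip d c = ip d a + ip d b := by
  simp only [ip_eq, h.ev]
theorem ip_rf (a b c : Φ) : ip (rf a b) (rf a c) = ip b c := by
  revert a b c; decide +kernel
theorem sm_rf {a b c : Φ} (d : Φ) (h : Sm a b c) : Sm (rf d a) (rf d b) (rf d c) := by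
  rw [sm_iff] at *
  intro j
  have hp : pr d c = pr d a + pr d b := by
    have := (sm_iff.2 h).ip d
    have t : ∀ d r, (if lg d then 4 else 2) * pr d r = ip d r := by decide +kernel
    have t1 := t d a; have t2 := t d b; have t3 := t d c
    split_ifs at t1 t2 t3 <;> omega
  rw [co_rf, co_rf, co_rf, hp, ← h j]; ring
theorem rf_rf_rf (a b c : Φ) : rf (rf a b) c = rf a (rf b (rf a c)) := by
  revert a b c; decide +kernel
theorem du_du : ∀ a, du (du a) = a := by decide +kernel
theorem lg_du : ∀ a, lg (du a) ↔ ¬ lg a := by decide +kernel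
theorem du_ng : ∀ a, du (ng a) = ng (du a) := by decide +kernel
theorem du_rf : ∀ a b, du (rf a b) = rf (du a) (du b) := by decide +kernel
theorem ip_du_nonneg : ∀ a b, 0 ≤ ip (du a) (du b) ↔ 0 ≤ ip a b := by decide +kernel
theorem ip_du_pos : ∀ a b, 0 < ip (du a) (du b) ↔ 0 < ip a b := by decide +kernel
theorem pU_du : ∀ a, pU (du a) ↔ pU a := by decide +kernel
/-- The trichotomy for a pair of roots. -/
theorem pair_cases : ∀ a b, 0 ≤ ip a b ∨ b = ng a ∨
    ((lg a ↔ lg b) ∧ ip a b < 0 ∧ Sm a b (rf a b) ∧ (lg (rf a b) ↔ lg a)) ∨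
    (lg a ∧ ¬ lg b ∧ ip a b < 0 ∧ Sm a b (rf a b) ∧ Sm (rf a b) b (rf b a)) ∨
    (lg b ∧ ¬ lg a ∧ ip a b < 0 ∧ Sm b a (rf b a) ∧ Sm (rf b a) a (rf a b)) := by decide +kernel
theorem c2_du : ∀ a b, (lg a ↔ lg b) → ip a b < 0 → b ≠ ng a →
    Sm (du a) (du b) (du (rf a b)) := by decide +kernel
theorem c3_du : ∀ a b, lg a → ¬ lg b → ip a b < 0 →
    Sm (du b) (du a) (du (rf b a)) ∧ Sm (du (rf b a)) (du a) (du (rf a b)) := by decide +kernel
theorem sm_ne_ng {a b c : Φ} (h : Sm a b c) : b ≠ ng a := by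
  rintro rfl
  revert a c; decide +kernel
theorem c3_facts : ∀ a b, lg a → ¬ lg b → ∀ c, Sm a b c → ip a b < 0 ∧ c = rf a b ∧ ¬ lg c ∧
    lg (rf b a) ∧ Sm c b (rf b a) ∧ 0 ≤ ip a c ∧ 0 ≤ ip b c ∧ 0 ≤ ip a (rf b a) ∧
    0 ≤ ip b (rf b a) ∧ 0 ≤ ip c (rf b a) := by decide +kernel
theorem c2_facts : ∀ a b, (lg a ↔ lg b) → ip a b < 0 → ∀ c, Sm a b c → c = rf a b ∧
    (lg c ↔ lg a) ∧ 0 < ip a c ∧ 0 < ip b c := by decide +kernel

end Tables

section Basic

variable {K Γ : Type*} [CommRing K] [Group Γ] {x : Φ → K → Γ} {p q : Φ → Prop}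

theorem x_mem_rt (a : Φ) (s : K) : x a s ∈ rt x a := subset_closure ⟨s, rfl⟩

theorem rt_le {a : Φ} {H : Subgroup Γ} : rt x a ≤ H ↔ ∀ s, x a s ∈ H :=
  ⟨fun h s => h (x_mem_rt a s), fun h => (closure_le _).2 (by rintro _ ⟨s, rfl⟩; exact h s)⟩

theorem rt_le_sp {a : Φ} (h : p a) : rt x a ≤ sp x p := le_spanX (rt x) h

theorem x_mem_sp {a : Φ} (h : p a) (s : K) : x a s ∈ sp x p := rt_le_sp h (x_mem_rt a s)

theorem sp_le {H : Subgroup Γ} : sp x p ≤ H ↔ ∀ a, p a → ∀ s, x a s ∈ H :=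
  spanX_le_iff.trans (forall₂_congr fun _ _ => rt_le)

theorem sp_mono (h : ∀ a, p a → q a) : sp x p ≤ sp x q := spanX_mono _ h

theorem sp_congr (h : ∀ a, p a ↔ q a) : sp x p = sp x q :=
  le_antisymm (sp_mono fun a => (h a).1) (sp_mono fun a => (h a).2)

theorem sp_or : sp x (fun a => p a ∨ q a) = sp x p ⊔ sp x q := spanX_union _ _ _

theorem sp_eq_rt {a : Φ} (h : ∀ r, p r ↔ r = a) : sp x p = rt x a :=
  le_antisymm (sp_le.2 fun r hr s => (h r).1 hr ▸ x_mem_rt r s) (rt_le_sp ((h a).2 rfl))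

theorem x_mem_LL (a : Φ) (s : K) : x a s ∈ LL x := x_mem_sp trivial s

theorem LL_le {H : Subgroup Γ} : LL x ≤ H ↔ ∀ a s, x a s ∈ H :=
  sp_le.trans (forall_congr' fun _ => forall_true_left _)

theorem sp_le_LL : sp x p ≤ LL x := sp_mono fun _ _ => trivial

theorem rt_le_LL (a : Φ) : rt x a ≤ LL x := rt_le_sp trivial

theorem pw_mem {l : List Φ} (h : ∀ r ∈ l, p r) (c : Φ → K) : pw x l c ∈ sp x p :=
  list_prod_mem fun g hg => by
    obtain ⟨r, hr, rfl⟩ := List.mem_map.1 hg
    exact x_mem_sp (h r hr) _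

theorem rt_map {Γ' : Type*} [Group Γ'] (φ : Γ →* Γ') (a : Φ) :
    (rt x a).map φ = rt (fun a s => φ (x a s)) a := by
  rw [rt, rt, MonoidHom.map_closure, ← Set.range_comp]; rfl

theorem sp_map {Γ' : Type*} [Group Γ'] (φ : Γ →* Γ') (p : Φ → Prop) :
    (sp x p).map φ = sp (fun a s => φ (x a s)) p := by
  rw [sp, map_spanX]; simp only [rt_map]; rfl

theorem rt_cx (g : Γ) (a : Φ) : rt (cx x g) a = cj g (rt x a) :=
  (rt_map (MulAut.conj g).toMonoidHom a).symm

theorem sp_cx (g : Γ) (p : Φ → Prop) : sp (cx x g) p = cj g (sp x p) :=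
  (sp_map (MulAut.conj g).toMonoidHom p).symm

theorem LL_cx (g : Γ) : LL (cx x g) = cj g (LL x) := sp_cx g _

theorem cx_one : cx x 1 = x := by ext a s; simp [cx]

theorem cx_cx (g g' : Γ) : cx (cx x g) g' = cx x (g' * g) := by ext a s; simp [cx, mul_assoc]

theorem dual_cx (g : Γ) : dual (cx x g) = cx (dual x) g := rfl

theorem dual_dual (a : Φ) (s : K) : dual (dual x) a s = x a (s ^ 2) := by
  simp only [dual, du_du, lg_du]
  by_cases h : lg a <;> simp [h]

theorem dual_one (a : Φ) : dual x a 1 = x (du a) 1 := by simp [dual]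

/-- Commuting with all generators. -/
theorem mem_Cs_sp {g : Γ} : g ∈ Cs (sp x p) ↔ ∀ a, p a → ∀ s, Commute g (x a s) := by
  have : g ∈ Cs (sp x p) ↔ sp x p ≤ C1 g :=
    ⟨fun h u hu => mem_centralizer_singleton_iff.2 (mem_centralizer_iff.1 h u hu),
      fun h => mem_centralizer_iff.2 fun u hu => mem_centralizer_singleton_iff.1 (h hu)⟩
  rw [this, sp_le]
  exact forall₃_congr fun a _ s => mem_centralizer_singleton_iff.trans
    ⟨fun e => e.symm, fun e => e.symm⟩

namespace F4S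

variable (h : F4S x)
include h

theorem zero (a : Φ) : x a 0 = 1 := by
  have := h.add a 0 0
  rw [add_zero] at this
  exact left_eq_mul.1 this

theorem add_self (s : K) : s + s = 0 := by rw [← two_mul, h.two, zero_mul]

theorem neg_eq (s : K) : -s = s := neg_eq_of_add_eq_zero_left (h.add_self s)

theorem eq_of_add {s u : K} (e : s + u = 0) : s = u := by
  rw [← h.neg_eq u]; exact eq_neg_of_add_eq_zero_left e

theorem mul_self (a : Φ) (s : K) : x a s * x a s = 1 := by
  rw [← h.add, h.add_self, h.zero]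

theorem inv (a : Φ) (s : K) : (x a s)⁻¹ = x a s := inv_eq_of_mul_eq_one_right (h.mul_self a s)

theorem mem_rt {a : Φ} {g : Γ} : g ∈ rt x a ↔ ∃ s, g = x a s := by
  refine ⟨fun hg => ?_, by rintro ⟨s, rfl⟩; exact x_mem_rt a s⟩
  induction hg using closure_induction with
  | mem y hy => obtain ⟨s, rfl⟩ := hy; exact ⟨s, rfl⟩
  | one => exact ⟨0, (h.zero a).symm⟩
  | mul a b _ _ ha hb =>
    obtain ⟨s, rfl⟩ := ha
    obtain ⟨u, rfl⟩ := hb
    exact ⟨s + u, (h.add _ s u).symm⟩
  | inv a _ ha =>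
    obtain ⟨s, rfl⟩ := ha
    exact ⟨s, h.inv _ s⟩

/-- Conjugation form of `c0`. -/
theorem k0 (a b : Φ) (hab : 0 ≤ ip a b) (s u : K) : x a s * x b u * (x a s)⁻¹ = x b u := by
  rw [(h.c0 a b hab s u).eq, mul_inv_cancel_right]

/-- A short root element acting on a long one. -/
theorem c3' (a b c d : Φ) (ha : lg a) (hb : ¬ lg b) (h1 : Sm a b c) (h2 : Sm c b d) (s u : K) :
    x b u * x a s * (x b u)⁻¹ = x a s * x c (s * u) * x d (s * u ^ 2) := by
  obtain ⟨-, -, -, -, h3, h4, h5, h6, h7, h8⟩ := c3_facts a b ha hb c h1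
  obtain rfl := h2.uniq h3
  rw [mul_assoc (x a s)]
  refine SG2.G2S.swap_comm (h.mul_self _ _) (h.mul_self _ _) ?_
    ((h.c0 _ _ h4 _ _).mul_right (h.c0 _ _ h6 _ _)) ((h.c0 _ _ h5 _ _).mul_right (h.c0 _ _ h7 _ _))
    (by rw [h.c3 a b c _ ha hb h1 h2, mul_assoc])
  rw [(h.c0 _ _ h8 _ _).symm.mul_mul_mul_comm, h.mul_self, h.mul_self, one_mul]

theorem map {Γ' : Type*} [Group Γ'] (φ : Γ →* Γ') : F4S fun a s => φ (x a s) where
  two := h.two
  add a s u := by rw [h.add, map_mul]
  c0 a b hab s u := (h.c0 a b hab s u).map φ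
  c2 a b c h1 h2 h3 s u := by simpa using congrArg φ (h.c2 a b c h1 h2 h3 s u)
  c3 a b c d h1 h2 h3 h4 s u := by simpa using congrArg φ (h.c3 a b c d h1 h2 h3 h4 s u)

theorem cx (g : Γ) : F4S (cx x g) := h.map (MulAut.conj g).toMonoidHom

/-- Change of coefficients along a (not necessarily unital) multiplicative additive map. -/
theorem comp {K' : Type*} [CommRing K'] (h2 : (2 : K') = 0) (f : K' → K)
    (fa : ∀ s u, f (s + u) = f s + f u) (fm : ∀ s u, f (s * u) = f s * f u) :
    F4S fun a s => x a (f s) where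
  two := h2
  add a s u := by rw [fa, h.add]
  c0 a b hab s u := h.c0 a b hab _ _
  c2 a b c h1 h2 h3 s u := by rw [h.c2 a b c h1 h2 h3, fm]
  c3 a b c d h1 h2 h3 h4 s u := by simp only [h.c3 a b c d h1 h2 h3 h4, pow_two, fm]

/-- Reflection of the root system. -/
theorem refl (d : Φ) : F4S fun a => x (rf d a) where
  two := h.two
  add a := h.add _
  c0 a b hab := h.c0 _ _ (by rwa [ip_rf])
  c2 a b c h1 h2 h3 := h.c2 _ _ _ (by rwa [lg_rf, lg_rf]) (by rwa [ip_rf]) (sm_rf d h3)
  c3 a b c e h1 h2 h3 h4 :=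
    h.c3 _ _ _ _ (by rwa [lg_rf]) (by rwa [lg_rf]) (sm_rf d h3) (sm_rf d h4)

theorem dual : F4S (dual x) where
  two := h.two
  add a s u := by
    have : (s + u) ^ 2 = s ^ 2 + u ^ 2 := by linear_combination (s * u) * h.two
    simp only [SF4.dual]
    split_ifs <;> rw [← h.add]
    rw [this]
  c0 a b hab s u := h.c0 _ _ ((ip_du_nonneg a b).2 hab) _ _
  c2 a b c h1 h2 h3 s u := by
    obtain ⟨rfl, h4, -⟩ := c2_facts a b h1 h2 c h3
    have := h.c2 (du a) (du b) _ (by rw [lg_du, lg_du, h1])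
      (by rw [← not_le, ip_du_nonneg]; omega) (c2_du a b h1 h2 (sm_ne_ng h3))
    simp only [SF4.dual, this, h4, ← h1]
    split_ifs <;> simp [mul_pow]
  c3 a b c d h1 h2 h3 h4 s u := by
    obtain ⟨h5, rfl, h6, h7, h8, -, -, -, -, h9⟩ := c3_facts a b h1 h2 c h3
    obtain rfl := h4.uniq h8
    obtain ⟨e1, e2⟩ := c3_du a b h1 h2 h5
    have := h.c3' (du b) (du a) _ _ (by rwa [lg_du]) (by rwa [lg_du, not_not]) e1 e2 (u ^ 2) s
    simp only [SF4.dual, h1, h2, h6, h7, if_true, if_false, this]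
    rw [mul_assoc, mul_assoc, (h.c0 _ _ ((ip_du_nonneg _ _).2 h9) _ _).eq, mul_pow, mul_comm s,
      mul_comm (s ^ 2)]

theorem dual_iter (k : ℕ) : F4S (SF4.dual^[k] x) := by
  induction k with
  | zero => exact h
  | succ k ih => rw [Function.iterate_succ_apply']; exact ih.dual

/-- The commutator formula in coarse form. -/
theorem conj_mem {a b : Φ} (hp : Pd a b p) (s u : K) :
    (x b u)⁻¹ * (x a s * x b u * (x a s)⁻¹) ∈ sp x p := by
  rcases pair_cases a b with h0 | h0 | ⟨h1, h2, h3, -⟩ | ⟨h1, h2, h3, h4, h5⟩ | ⟨h1, h2, h3, h4, h5⟩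
  · rw [h.k0 a b h0, inv_mul_cancel]; exact one_mem _
  · exact (hp.1 h0).elim
  · rw [h.c2 a b _ h1 h2 h3, inv_mul_cancel_left]; exact x_mem_sp (hp.2 h2).1 _
  · rw [h.c3 a b _ _ h1 h2 h4 h5, mul_assoc, inv_mul_cancel_left]
    exact mul_mem (x_mem_sp (hp.2 h3).1 _) (x_mem_sp (hp.2 h3).2 _)
  · rw [h.c3' b a _ _ h1 h2 h4 h5 u s, mul_assoc, inv_mul_cancel_left]
    exact mul_mem (x_mem_sp (hp.2 h3).2 _) (x_mem_sp (hp.2 h3).1 _)

/-- Commutators of root elements. -/
theorem comm_mem {a b : Φ} (hp : Pd a b p) (hb : ∀ u, x b u ∈ Ns (sp x p))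
    (s u : K) : ⁅x a s, x b u⁆ ∈ sp x p := by
  have := mem_normalizer_conj (hb u) (h.conj_mem hp s u)
  rwa [show x b u * ((x b u)⁻¹ * (x a s * x b u * (x a s)⁻¹)) * (x b u)⁻¹ = ⁅x a s, x b u⁆ by
    rw [commutatorElement_def]; group] at this

/-- A root element normalises a pattern subgroup. -/
theorem x_mem_Ns {a : Φ} (hp : p a ∨ ∀ b, p b → Pd a b p) (s : K) : x a s ∈ Ns (sp x p) := by
  rcases hp with hp | hp
  · exact le_normalizer (x_mem_sp hp s)
  · have k : ∀ g ∈ rt x a, ∀ u ∈ sp x p, g * u * g⁻¹ ∈ sp x p := fun g hg u hu => by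
      obtain ⟨s, rfl⟩ := h.mem_rt.1 hg
      refine conj_mem_of_spanX (fun b hb v hv => ?_) hu
      obtain ⟨u, rfl⟩ := h.mem_rt.1 hv
      have := mul_mem (x_mem_sp hb u : _ ∈ sp x p) (h.conj_mem (hp b hb) s u)
      rwa [mul_inv_cancel_left] at this
    exact le_normalizer_of_conj_mem k (x_mem_rt a s)

theorem sp_le_Ns (hp : ∀ a, q a → p a ∨ ∀ b, p b → Pd a b p) : sp x q ≤ Ns (sp x p) :=
  sp_le.2 fun a ha s => h.x_mem_Ns (hp a ha) s

theorem sp_le_Cs (hp : ∀ a, q a → ∀ b, p b → 0 ≤ ip a b) : sp x q ≤ Cs (sp x p) :=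
  sp_le.2 fun a ha s => mem_Cs_sp.2 fun b hb u => h.c0 a b (hp a ha b hb) s u

end F4S

end Basic

theorem Φ_eq_1' : type_of% @Φ.eq_1 := @Φ.eq_1
theorem cdT_eq_1' : type_of% @cdT.eq_1 := @cdT.eq_1
theorem lgT_eq_1' : type_of% @lgT.eq_1 := @lgT.eq_1
theorem duT_eq_1' : type_of% @duT.eq_1 := @duT.eq_1
theorem ipT_eq_1' : type_of% @ipT.eq_1 := @ipT.eq_1
theorem rfT_eq_1' : type_of% @rfT.eq_1 := @rfT.eq_1
theorem cd_eq_1' : type_of% @cd.eq_1 := @cd.eq_1
theorem co_eq_1' : type_of% @co.eq_1 := @co.eq_1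
theorem lg_eq_1' : type_of% @lg.eq_1 := @lg.eq_1
theorem ip_eq_1' : type_of% @ip.eq_1 := @ip.eq_1
theorem Sm_eq_1' : type_of% @Sm.eq_1 := @Sm.eq_1
theorem ng_eq_1' : type_of% @ng.eq_1 := @ng.eq_1
theorem rf_eq_1' : type_of% @rf.eq_1 := @rf.eq_1
theorem pr_eq_1' : type_of% @pr.eq_1 := @pr.eq_1
theorem du_eq_1' : type_of% @du.eq_1 := @du.eq_1
theorem ev_eq_1' : type_of% @ev.eq_1 := @ev.eq_1
theorem pU_eq_1' : type_of% @pU.eq_1 := @pU.eq_1
theorem pP_eq_1' : type_of% @pP.eq_1 := @pP.eq_1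
theorem pQ_eq_1' : type_of% @pQ.eq_1 := @pQ.eq_1
theorem pZ_eq_1' : type_of% @pZ.eq_1 := @pZ.eq_1
theorem pA_eq_1' : type_of% @pA.eq_1 := @pA.eq_1
theorem pD_eq_1' : type_of% @pD.eq_1 := @pD.eq_1
theorem pA2_eq_1' : type_of% @pA2.eq_1 := @pA2.eq_1
theorem pJ4_eq_1' : type_of% @pJ4.eq_1 := @pJ4.eq_1
theorem Pd_eq_1' : type_of% @Pd.eq_1 := @Pd.eq_1
theorem Cl_eq_1' : type_of% @Cl.eq_1 := @Cl.eq_1
theorem rt_eq_1' : type_of% @rt.eq_1 := @rt.eq_1
theorem sp_eq_1' : type_of% @sp.eq_1 := @sp.eq_1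
theorem LL_eq_1' : type_of% @LL.eq_1 := @LL.eq_1
theorem pw_eq_1' : type_of% @pw.eq_1 := @pw.eq_1
theorem UU_eq_1' : type_of% @UU.eq_1 := @UU.eq_1
theorem PR_eq_1' : type_of% @PR.eq_1 := @PR.eq_1
theorem QR_eq_1' : type_of% @QR.eq_1 := @QR.eq_1
theorem ZR_eq_1' : type_of% @ZR.eq_1 := @ZR.eq_1
theorem PP_eq_1' : type_of% @PP.eq_1 := @PP.eq_1
theorem QQ_eq_1' : type_of% @QQ.eq_1 := @QQ.eq_1
theorem ZZ_eq_1' : type_of% @ZZ.eq_1 := @ZZ.eq_1
theorem Z0_eq_1' : type_of% @Z0.eq_1 := @Z0.eq_1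
theorem C3_eq_1' : type_of% @C3.eq_1 := @C3.eq_1
theorem JJ_eq_1' : type_of% @JJ.eq_1 := @JJ.eq_1
theorem C4_eq_1' : type_of% @C4.eq_1 := @C4.eq_1
theorem J4_eq_1' : type_of% @J4.eq_1 := @J4.eq_1
theorem W4_eq_1' : type_of% @W4.eq_1 := @W4.eq_1
theorem W6_eq_1' : type_of% @W6.eq_1 := @W6.eq_1
theorem z7_eq_1' : type_of% @z7.eq_1 := @z7.eq_1
theorem cx_eq_1' : type_of% @cx.eq_1 := @cx.eq_1
theorem dual_eq_1' : type_of% @dual.eq_1 := @dual.eq_1
theorem Acts_eq_1' : type_of% @Acts.eq_1 := @Acts.eq_1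
theorem q7_eq_1' : type_of% @q7.eq_1 := @q7.eq_1
theorem O2_eq_1' : type_of% @O2.eq_1 := @O2.eq_1
theorem nn_eq_1' : type_of% @nn.eq_1 := @nn.eq_1
theorem hh_eq_1' : type_of% @hh.eq_1 := @hh.eq_1
theorem r3_eq_1' : type_of% @r3.eq_1 := @r3.eq_1
theorem pd_eq_1' : type_of% @pd.eq_1 := @pd.eq_1
theorem Sh_eq_1' : type_of% @Sh.eq_1 := @Sh.eq_1
theorem Lo_eq_1' : type_of% @Lo.eq_1 := @Lo.eq_1
theorem Mx_eq_1' : type_of% @Mx.eq_1 := @Mx.eq_1
theorem Fo_eq_1' : type_of% @Fo.eq_1 := @Fo.eq_1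
theorem res_eq_1' : type_of% @res.eq_1 := @res.eq_1

end Cfsg.Lib.SF4
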