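import Cfsg.Agent.SF4.CTr
import Cfsg.Agent.Local.IsolatedP

/-!
# Two commuting simple groups interchanged by an involution: the last transfer case
-/

set_option autoImplicit false
set_option linter.unusedSectionVars false

namespace Cfsg.Lib.SF4.Wr

open Subgroup Cfsg.Lib.Trans Cfsg.Lib.Gold
open Cfsg.Lib.SG2 (Top Uq)
open scoped commutatorElement

variable {G Γ : Type*} [Group G] [Finite G] [CommGroup Γ] [Finite Γ] [IsCyclic Γ]
  {A B U V D E X P W : Subgroup G} {θ η : G → Γ} {a b t g g' p s v φ : G} {q r : ℕ}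

section CP
variable (h : WR A B U V D E θ η a b q t X) (hP : PC A B U V D E t P)
include h hP

theorem CTs.part (hg : g ∈ (U ⊔ V ⊔ P) ⊓ X) : ∃ c ∈ U, ∃ d ∈ V, ∃ p ∈ P, p ∈ X ∧ g = c * d * p ∧
    (g ∈ Ns A ↔ p ∈ Ns A) ∧ (p ∈ Ns A → θ g = θ p ∧ η g = η p) ∧ ∀ n : ℕ, g ^ n = 1 → p ^ n = 1 := by
  obtain ⟨c, hc, d, hd, p, hp, rfl⟩ := h.decomp hP hg.1
  have hu := h.UG (mul_mem_sup hc hd)
  exact ⟨c, hc, d, hd, p, hp, (mul_mem_cancel_left (h.le hu)).1 hg.2, rfl, h.part hP hu hp⟩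

theorem WR.caseB3 (hφ : Ph D E θ η P φ) (hex : ∃ s ∈ P, s ∈ X ∧ s ∉ Ns A)
    (hno : ∀ s ∈ P, s ∈ X → s * s = 1 → s ∈ Ns A) : False := by
  have := Fact.mk Nat.prime_two
  obtain ⟨s, hs, hX, hn⟩ := hex
  induction e : orderOf s using Nat.strong_induction_on generalizing s with | _ N ih => ?_
  subst e
  have SM := hP.syl.le
  have sM := h.P_M hP hs
  obtain ⟨j, hj⟩ : ∃ j, orderOf s = 2 ^ (j + 2) := by
    obtain ⟨k, hk⟩ := IsPGroup.iff_orderOf.1 hP.two ⟨s, hs⟩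
    rw [orderOf_mk] at hk
    rcases k with _ | _ | j
    · exact (hn (orderOf_eq_one_iff.1 hk ▸ one_mem _)).elim
    · exact (hn (hno s hs hX
        (by rw [← pow_two]; exact orderOf_dvd_iff_pow_eq_one.1 hk.dvd))).elim
    · exact ⟨j, hk⟩
  have s1 : s ^ 2 ^ (j + 2) = 1 := hj ▸ pow_orderOf_eq_one s
  have s2 : s ^ 2 ^ (j + 1) ≠ 1 := pow_ne_one_of_lt_orderOf (by positivity)
    (hj ▸ Nat.pow_lt_pow_right one_lt_two (by omega))
  have hc := mul_mem hs hs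
  have cA := h.idx s sM s sM hn hn
  have cB := h.NB (mul_mem sM sM) cA
  have cp : ∀ n, (s * s) ^ 2 ^ n = s ^ 2 ^ (n + 1) := fun n => by
    rw [← pow_two, ← pow_mul, ← pow_succ']
  have e1 : θ (s * s) = η (s * s) := by
    rw [← h.tθ _ cA, show t * (s * s) * t⁻¹ = t * s * (s * s) * (t * s)⁻¹ by group,
      h.fb.conj (h.NB (mul_mem h.tM sM) (h.idx t h.tM s sM h.tN hn)) cB]
  have fA : s ^ 2 ^ (j + 1) ∈ Ns A := cp j ▸ pow_mem cA _
  have e2 : θ (s ^ 2 ^ (j + 1)) = η (s ^ 2 ^ (j + 1)) := by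
    rw [← cp, h.fa.pow cA, h.fb.pow cB, e1]
  have e3 : θ (s ^ 2 ^ (j + 1)) ≠ 1 := fun e => s2 (h.P_inj hP (pow_mem hs _) fA e (e2 ▸ e))
  obtain rfl := h.ph_uniq hP hφ ⟨pow_mem hs _, h.P_nsw hP (pow_mem hs _) fA,
    by rw [← pow_two, ← pow_mul, ← pow_succ, s1], e3, e2 ▸ e3⟩
  have e4 : θ (s * s) ^ 2 ^ (j + 1) = 1 := by rw [← h.fa.pow cA, cp, s1, h.fa.one]
  have o1 : orderOf (θ (s * s)) = 2 ^ (j + 1) :=
    orderOf_eq_prime_pow (by rwa [← h.fa.pow cA, cp]) e4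
  obtain ⟨W', w1, w2, w3⟩ := exists_diag (W := U ⊓ C1 (s * s)) h.com h.inf (h.swp sM hn).1
    (inf_le_inf_right _ h.fa.syl.le) h.fa.up.two.to_inf_left
  obtain ⟨κ, k1, k2, k3⟩ := SG2.thompson_sub (T := Ns A) h.top.perf (h.syl0 hP)
    (fun a ha b hb => Comp.comm_mem_of_idx h.idx (SM ha.1) (SM hb.1)) hX ⟨_, s1⟩
    (fun m hm m1 k hk => by
      obtain ⟨-, -, -, -, p, hp, pX, -, a1, -, a2⟩ := CTs.part h hP hk
      obtain ⟨n, hn'⟩ := hm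
      have o := orderOf_pos s
      refine a1.2 (by_contra fun pn => ih _ ?_ p hp pX pn rfl)
      have n0 : 0 < n := Nat.pos_of_ne_zero fun e => by rw [e] at hn'; omega
      have m0 : 1 < m := by
        have : m ≠ 0 := fun e => by rw [e] at hn'; omega
        omega
      refine (Nat.le_of_dvd n0 (orderOf_dvd_of_pow_eq_one (a2 n ?_))).trans_lt
        (hn' ▸ (Nat.lt_mul_iff_one_lt_left n0).2 m0)
      rw [conj_pow, ← pow_mul, ← hn', pow_orderOf_eq_one, mul_one, mul_inv_cancel])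
    (fun k l a b c d => h.idx _ (SM a.1) _ (SM b.1) c d) w2 (w1.trans (inf_le_left.trans h.le))
    (w1.trans inf_le_right)
  obtain ⟨-, i1, i2⟩ := h.iso hP hφ (g := κ) (conj_pow (a := κ) ▸ pow_mem k1.1 _)
  obtain ⟨c, hc', d, hd, p, hp, -, ex, a1, a2, -⟩ := CTs.part h hP k1
  have pA := a1.1 k2
  have x1 : (κ * s * κ⁻¹) ^ 2 ^ (j + 2) = 1 := by rw [conj_pow, s1, mul_one, mul_inv_cancel]
  have kB := h.NB (SM k1.1) k2
  have o2 : orderOf (θ p) = 2 ^ (j + 2) := (a2 pA).1 ▸ orderOf_eq_prime_pow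
    (by rwa [← h.fa.pow k2, conj_pow]) (by rw [← h.fa.pow k2, x1, h.fa.one])
  have o3 : orderOf (η p) = 2 ^ (j + 2) := (a2 pA).2 ▸ orderOf_eq_prime_pow
    (by rwa [← h.fb.pow kB, conj_pow]) (by rw [← h.fb.pow kB, x1, h.fb.one])
  obtain ⟨i, hi, ei⟩ := h.descent hP hc' hd hp pA o2 o3 (ex ▸ x1)
  obtain ⟨n, en⟩ := Local.Iso.mem_zpowers_of_isCyclic (a := θ p * θ p) (n := 2 ^ (j + 1))
    (by rw [← pow_two, orderOf_pow_of_dvd two_ne_zero (o2 ▸ dvd_pow_self 2 (by omega)), o2,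
      pow_succ _ (j + 1), Nat.mul_div_cancel _ two_pos]) e4
  have cD := (h.P_nsw hP hc cA).1
  obtain ⟨r, hr⟩ := h.fa.fx _ cD (θ p ^ n) (by rw [← en, ← mul_zpow])
  have pD := h.P_nsw hP hp pA
  have f1 := h.fa.fc _ cD
  rw [hr.card, o1, ← pow_mul, show 24 * 2 ^ (j + 1) = 12 * 2 ^ (j + 2) by ring, pow_mul] at f1
  have f2 := (h.fa.fc _ pD.1).trans f1.symm
  have f3 := (h.fb.fc _ pD.2).trans f1.symm
  rw [o2] at f2
  rw [o3] at f3
  have l1 : cj (i * κ) W' ≤ (U ⊔ V ⊔ P) ⊓ X := by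
    rw [cj_mul]
    exact (cj_mono i k3).trans (cj_eq_of_mem_normalizer (le_normalizer
      (mem_inf.2 ⟨mem_sup_left hi, h.le (h.UG hi)⟩))).le
  refine h.emb2 hP hp pA (o2 ▸ Even.pow_of_ne_zero even_two (by omega))
    (o3 ▸ Even.pow_of_ne_zero even_two (by omega))
    (Nat.pow_left_injective (by positivity) f2) (Nat.pow_left_injective (by positivity) f3)
    ((w3 r hr).cj (i * κ)) (le_inf (l1.trans inf_le_left) (cj_le_iff.2 fun w hw => ?_))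
    fun v hv v2 _ => ?_
  · rw [← ei, ← ex, show i * (κ * s * κ⁻¹) * i⁻¹ = i * κ * s * (i * κ)⁻¹ by group]
    exact mem_centralizer_singleton_iff.2 (by
      rw [conj_mul, conj_mul, mem_centralizer_singleton_iff.1 (w1 hw).2])
  · obtain ⟨-, -, -, -, p', hp', pX, -, b1, -, b2⟩ := CTs.part h hP (l1 hv)
    exact b1.2 (hno p' hp' pX (by rw [← pow_two]; exact b2 2 (by rw [pow_two, v2])))

theorem WR.P_X (hs : s ∈ P) (hX : s ∈ X) : s = 1 := by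
  by_contra s1
  have PM := h.P_M hP
  have tX := h.not_mem hP
  have tw : IsPGroup 2 (zpowers t) := (Comp.Tw.of_sq h.t2).isPGroup
  have nP : t ∈ Ns (P ⊓ Ns A) := StdSz.mem_Ns fun p hp =>
    ⟨P.mul_mem (P.mul_mem hP.mem hp.1) (P.inv_mem hP.mem), (h.conj_iff h.tM (PM hp.1)).2 hp.2⟩
  have fix : ∀ K ≤ P ⊓ Ns A, t ∈ Ns K → K ≠ ⊥ → ∃ φ ∈ K, Ph D E θ η P φ := fun K hK hN h1 => by
    obtain ⟨z, hz, z1, z2, zc, -⟩ := Comp.exists_fix tw (hP.two.to_inf_left.to_le hK)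
      (zpowers_le.2 hN) h1
    exact ⟨z, hz, h.ph_fix hP (hK hz).1 (hK hz).2 z1 z2 (mem_Cs.1 zc t (mem_zpowers t))⟩
  by_cases e : P ⊓ Ns A = ⊥
  · have sn : s ∉ Ns A := fun k => s1 (mem_bot.1 (e.le ⟨hs, k⟩))
    have := mem_bot.1 (e.le ⟨mul_mem hs hP.mem, h.idx s (PM hs) t h.tM sn h.tN⟩)
    exact tX (inv_mem_iff.1 (eq_inv_of_mul_eq_one_left this ▸ hX))
  obtain ⟨φ, -, hφ⟩ := fix _ le_rfl nP e
  have φA := h.fa.DA hφ.nsw.1
  by_cases φX : φ ∈ X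
  · by_cases k : ∃ s ∈ P, s ∈ X ∧ s ∉ Ns A
    · refine h.caseB3 hP hφ k fun p hp pX p2 => by_contra fun pn => ?_
      exact h.caseB2 hP hφ φX hp pX pn p2
    · exact h.caseA hP hφ φX fun p hp pX => by_contra fun pn => k ⟨p, hp, pX, pn⟩
  have e' : P ⊓ Ns A ⊓ X = ⊥ := by_contra fun e' => by
    obtain ⟨ψ, hψ, k⟩ := fix _ inf_le_left (mem_Ns_inf nP (h.nX t)) e'
    exact φX (h.ph_uniq hP hφ k ▸ hψ.2)
  have hn : ∀ p ∈ P, p ∈ X → p ∈ Ns A → p = 1 := fun p a b c => mem_bot.1 (e'.le ⟨⟨a, c⟩, b⟩)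
  have sn : s ∉ Ns A := fun k => s1 (hn s hs hX k)
  have := hn _ (mul_mem (mul_mem hs hP.mem) hφ.mem)
    (h.top.ef_idx h.t2 (fun k => tX ((mul_mem_cancel_left hX).1 k)) φX)
    (mul_mem (h.idx s (PM hs) t h.tM sn h.tN) φA)
  rw [mul_assoc] at this
  refine h.caseB1 hP hn hs hX s1 ?_
  rw [eq_inv_of_mul_eq_one_left this]
  exact ((Commute.refl t).mul_right (h.ph_cent hP hφ hP.mem).symm).inv_right

end CP

theorem WR.we (h : WR A B U V D E θ η a b q t X) : WE A B U V D E θ η a b q t X := by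
  obtain ⟨P, hP⟩ := h.exists_PC
  have e : (U ⊔ V ⊔ P) ⊓ X = U ⊔ V := le_antisymm (fun g hg => by
    obtain ⟨c, hc, d, hd, p, hp, pX, rfl, -⟩ := CTs.part h hP hg
    rw [h.P_X hP hp pX, mul_one]
    exact mul_mem_sup hc hd) (le_inf le_sup_left (h.UG.trans h.le))
  refine ⟨h, h.uq' hP, fun g hg h2 => ?_, e ▸ h.syl0 hP⟩
  obtain ⟨m, hm, k⟩ := hP.syl.exists_cj_le h2.isPGroup (zpowers_le.2 hg.2)
  exact (mem_normalizer_iff.1 hm g).2 (h.UG (e.le ⟨k (conj_mem_cj.2 (mem_zpowers g)),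
    h.top.normal.conj_mem _ hg.1 m⟩))

end Cfsg.Lib.SF4.Wr
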