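import Cfsg.Agent.SF4.M5A

/-!
# Standard subgroups of type `F₄(2ⁿ)`: explicit action of `B₃` on `ZZ`
-/

set_option autoImplicit false
set_option linter.unusedSectionVars false
set_option linter.unusedVariables false

namespace Cfsg.Lib.SF4

open Subgroup Cfsg.Lib.Trans Cfsg.Lib.Gold Cfsg.Lib.Chev
open scoped commutatorElement

variable {G K : Type*} [Group G] [CommRing K] {y : Φ → K → G}

theorem pw7 (c : Φ → K) : pw y l7 c = z7 y (c 41) (c 42) (c 43) (c 44) (c 45) (c 46) (c 47) := by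
  simp [pw, l7, z7, mul_assoc]

namespace F4S

variable (h : F4S y)
include h

theorem z15 (s a b c r c' b' a' : K) : y 15 s * z7 y a b c r c' b' a' * (y 15 s)⁻¹ =
    z7 y (a + s * b') (b + s * a') c r c' b' a' := by
  rw [z7_eq, h.conj7 (by decide), pw7]
  simp +decide [a7, show rf 15 41 = 46 by decide, show rf 15 42 = 47 by decide]

theorem z16 (s a b c r c' b' a' : K) : y 16 s * z7 y a b c r c' b' a' * (y 16 s)⁻¹ =
    z7 y (a + s * c') b (c + s * a') r c' b' a' := by
  rw [z7_eq, h.conj7 (by decide), pw7]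
  simp +decide [a7, show rf 16 41 = 45 by decide, show rf 16 43 = 47 by decide]

theorem z17 (s a b c r c' b' a' : K) : y 17 s * z7 y a b c r c' b' a' * (y 17 s)⁻¹ =
    z7 y a (b + s * c') (c + s * b') r c' b' a' := by
  rw [z7_eq, h.conj7 (by decide), pw7]
  simp +decide [a7, show rf 17 42 = 45 by decide, show rf 17 43 = 46 by decide]

theorem z18 (s a b c r c' b' a' : K) : y 18 s * z7 y a b c r c' b' a' * (y 18 s)⁻¹ =
    z7 y (a + s ^ 2 * a') b c (r + s * a') c' b' a' := by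
  rw [z7_eq, h.conj7 (by decide), pw7]
  simp +decide [a7, show rf 18 41 = 47 by decide, show b7 18 = 47 by decide]

theorem z19 (s a b c r c' b' a' : K) : y 19 s * z7 y a b c r c' b' a' * (y 19 s)⁻¹ =
    z7 y a (b + s ^ 2 * b') c (r + s * b') c' b' a' := by
  rw [z7_eq, h.conj7 (by decide), pw7]
  simp +decide [a7, show rf 19 42 = 46 by decide, show b7 19 = 46 by decide]

theorem z20 (s a b c r c' b' a' : K) : y 20 s * z7 y a b c r c' b' a' * (y 20 s)⁻¹ =
    z7 y a b (c + s ^ 2 * c') (r + s * c') c' b' a' := by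
  rw [z7_eq, h.conj7 (by decide), pw7]
  simp +decide [a7, show rf 20 43 = 45 by decide, show b7 20 = 45 by decide]

theorem z21 (s a b c r c' b' a' : K) : y 21 s * z7 y a b c r c' b' a' * (y 21 s)⁻¹ =
    z7 y (a + s * c) b c r (c' + s * a') b' a' := by
  rw [z7_eq, h.conj7 (by decide), pw7]
  simp +decide [a7, show rf 21 41 = 43 by decide, show rf 21 45 = 47 by decide]

theorem z22 (s a b c r c' b' a' : K) : y 22 s * z7 y a b c r c' b' a' * (y 22 s)⁻¹ =
    z7 y a (b + s * c) c r (c' + s * b') b' a' := by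
  rw [z7_eq, h.conj7 (by decide), pw7]
  simp +decide [a7, show rf 22 42 = 43 by decide, show rf 22 45 = 46 by decide]

theorem z23 (s a b c r c' b' a' : K) : y 23 s * z7 y a b c r c' b' a' * (y 23 s)⁻¹ =
    z7 y (a + s * b) b c r c' (b' + s * a') a' := by
  rw [z7_eq, h.conj7 (by decide), pw7]
  simp +decide [a7, show rf 23 41 = 42 by decide, show rf 23 46 = 47 by decide]

theorem z24 (s a b c r c' b' a' : K) : y 24 s * z7 y a b c r c' b' a' * (y 24 s)⁻¹ =
    z7 y a (b + s * a) c r c' b' (a' + s * b') := by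
  rw [z7_eq, h.conj7 (by decide), pw7]
  simp +decide [a7, show rf 24 42 = 41 by decide, show rf 24 47 = 46 by decide]

theorem z25 (s a b c r c' b' a' : K) : y 25 s * z7 y a b c r c' b' a' * (y 25 s)⁻¹ =
    z7 y a b (c + s * b) r c' (b' + s * c') a' := by
  rw [z7_eq, h.conj7 (by decide), pw7]
  simp +decide [a7, show rf 25 43 = 42 by decide, show rf 25 46 = 45 by decide]

theorem z26 (s a b c r c' b' a' : K) : y 26 s * z7 y a b c r c' b' a' * (y 26 s)⁻¹ =
    z7 y a b (c + s * a) r c' b' (a' + s * c') := by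
  rw [z7_eq, h.conj7 (by decide), pw7]
  simp +decide [a7, show rf 26 43 = 41 by decide, show rf 26 47 = 45 by decide]

theorem z27 (s a b c r c' b' a' : K) : y 27 s * z7 y a b c r c' b' a' * (y 27 s)⁻¹ =
    z7 y a b c (r + s * c) (c' + s ^ 2 * c) b' a' := by
  rw [z7_eq, h.conj7 (by decide), pw7]
  simp +decide [a7, show b7 27 = 43 by decide, show rf 27 45 = 43 by decide]

theorem z28 (s a b c r c' b' a' : K) : y 28 s * z7 y a b c r c' b' a' * (y 28 s)⁻¹ =
    z7 y a b c (r + s * b) c' (b' + s ^ 2 * b) a' := by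
  rw [z7_eq, h.conj7 (by decide), pw7]
  simp +decide [a7, show b7 28 = 42 by decide, show rf 28 46 = 42 by decide]

theorem z29 (s a b c r c' b' a' : K) : y 29 s * z7 y a b c r c' b' a' * (y 29 s)⁻¹ =
    z7 y a b c (r + s * a) c' b' (a' + s ^ 2 * a) := by
  rw [z7_eq, h.conj7 (by decide), pw7]
  simp +decide [a7, show b7 29 = 41 by decide, show rf 29 47 = 41 by decide]

theorem z30 (s a b c r c' b' a' : K) : y 30 s * z7 y a b c r c' b' a' * (y 30 s)⁻¹ =
    z7 y a b c r (c' + s * b) (b' + s * c) a' := by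
  rw [z7_eq, h.conj7 (by decide), pw7]
  simp +decide [a7, show rf 30 45 = 42 by decide, show rf 30 46 = 43 by decide]

theorem z31 (s a b c r c' b' a' : K) : y 31 s * z7 y a b c r c' b' a' * (y 31 s)⁻¹ =
    z7 y a b c r (c' + s * a) b' (a' + s * c) := by
  rw [z7_eq, h.conj7 (by decide), pw7]
  simp +decide [a7, show rf 31 45 = 41 by decide, show rf 31 47 = 43 by decide]

theorem z32 (s a b c r c' b' a' : K) : y 32 s * z7 y a b c r c' b' a' * (y 32 s)⁻¹ =
    z7 y a b c r c' (b' + s * a) (a' + s * b) := by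
  rw [z7_eq, h.conj7 (by decide), pw7]
  simp +decide [a7, show rf 32 46 = 41 by decide, show rf 32 47 = 42 by decide]

theorem z7_mul (a b c r c' b' a' A B C R C' B' A' : K) :
    z7 y a b c r c' b' a' * z7 y A B C R C' B' A' =
      z7 y (a + A) (b + B) (c + C) (r + R) (c' + C') (b' + B') (a' + A') := by
  rw [z7_eq, z7_eq, h.pw_mul (by decide), pw7]
  simp +decide

theorem z7_mem (a b c r c' b' a' : K) : z7 y a b c r c' b' a' ∈ ZZ y := h.mem_ZZ.2 ⟨_, z7_eq ..⟩

theorem mem_ZZ' {g : G} (hg : g ∈ ZZ y) : ∃ a b c r c' b' a', g = z7 y a b c r c' b' a' := by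
  obtain ⟨c, rfl⟩ := h.mem_ZZ.1 hg
  exact ⟨_, _, _, _, _, _, _, pw7 c⟩

theorem z7_inv (a b c r c' b' a' : K) : (z7 y a b c r c' b' a')⁻¹ = z7 y a b c r c' b' a' :=
  inv_eq_of_mul_eq_one_right (h.sp_sq (p := pZ 44) (by decide +kernel) (h.z7_mem a b c r c' b' a'))

theorem z7_0 : z7 y 0 0 0 0 0 0 0 = 1 := by simp [z7, h.zero]
theorem z7_41 (s : K) : z7 y s 0 0 0 0 0 0 = y 41 s := by simp [z7, h.zero]
theorem z7_42 (s : K) : z7 y 0 s 0 0 0 0 0 = y 42 s := by simp [z7, h.zero]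
theorem z7_43 (s : K) : z7 y 0 0 s 0 0 0 0 = y 43 s := by simp [z7, h.zero]
theorem z7_44 (s : K) : z7 y 0 0 0 s 0 0 0 = y 44 s := by simp [z7, h.zero]
theorem z7_45 (s : K) : z7 y 0 0 0 0 s 0 0 = y 45 s := by simp [z7, h.zero]
theorem z7_46 (s : K) : z7 y 0 0 0 0 0 s 0 = y 46 s := by simp [z7, h.zero]
theorem z7_47 (s : K) : z7 y 0 0 0 0 0 0 s = y 47 s := by simp [z7, h.zero]

end F4S

theorem Sys.z7_inj {F : Type*} [Field F] [Finite F] {x : Φ → F → G} (h : Sys x)
    {a b c r c' b' a' A B C R C' B' A' : F} (e : z7 x a b c r c' b' a' = z7 x A B C R C' B' A') :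
    a = A ∧ b = B ∧ c = C ∧ r = R ∧ c' = C' ∧ b' = B' ∧ a' = A' := by
  rw [z7_eq, z7_eq] at e
  simpa +decide [l7] using h.l7_inj e

end Cfsg.Lib.SF4
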